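import Mathlib.RingTheory.MvPowerSeries.Expand
import Mathlib.RingTheory.PowerSeries.Substitution
import Mathlib.RingTheory.FormalGroup.Basic
import Mathlib.RingTheory.DiscreteValuationRing.Basic
import Mathlib.RingTheory.LocalRing.ResidueField.Basic
import Mathlib.FieldTheory.Finite.Basic

/-!
Lubin–Tate series: successive approximation.
-/

set_option autoImplicit false
universe u

open MvPowerSeries

namespace Groth.L11.LubinTate

section Engine

variable {R : Type u} [CommRing R] {σ : Type}

theorem exists_single_of_degree_eq_one {m : σ →₀ ℕ} (hm : m.degree = 1) : ∃ i, m = Finsupp.single i 1 := by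
  obtain ⟨i, hi⟩ : ∃ i, m i ≠ 0 := by
    by_contra! hc
    rw [show m = 0 from Finsupp.ext hc] at hm
    simp at hm
  obtain ⟨e, he⟩ := le_iff_exists_add.mp (Finsupp.single_le_iff.mpr (Nat.one_le_iff_ne_zero.mpr hi))
  refine ⟨i, ?_⟩
  have : e = 0 := (Finsupp.degree_eq_zero_iff e).mp (by
    have := congrArg Finsupp.degree he
    rw [map_add, Finsupp.degree_single] at this
    omega)
  rw [he, this, add_zero]

/-- A series with given coefficients. -/
def ofFun (f : (σ →₀ ℕ) → R) : MvPowerSeries σ R := f

theorem coeff_ofFun (f : (σ →₀ ℕ) → R) (m : σ →₀ ℕ) : coeff m (ofFun f) = f m := rfl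

/-- An operator on series which is triangular with respect to the total degree, with diagonal `c`. -/
def IsTri (c : ℕ → R) (D : MvPowerSeries σ R → MvPowerSeries σ R) : Prop :=
  D 0 = 0 ∧ ∀ (n : ℕ) (G h : MvPowerSeries σ R), 1 ≤ n → G.constantCoeff = 0 →
    (∀ m : σ →₀ ℕ, m.degree < n → coeff m h = 0) →
    ∀ m : σ →₀ ℕ, m.degree ≤ n → coeff m (D (G + h)) = coeff m (D G) + c n * coeff m h

theorem unique_solution [IsDomain R] {c : ℕ → R} {D : MvPowerSeries σ R → MvPowerSeries σ R} (hD : IsTri c D)
    (hc : ∀ n, 2 ≤ n → c n ≠ 0) (G₁ G₂ : MvPowerSeries σ R)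
    (h₁ : G₁.constantCoeff = 0) (h₂ : G₂.constantCoeff = 0)
    (hlin : ∀ m : σ →₀ ℕ, m.degree = 1 → coeff m G₁ = coeff m G₂) (e₁ : D G₁ = 0) (e₂ : D G₂ = 0) : G₁ = G₂ := by
  suffices H : ∀ (n : ℕ) (m : σ →₀ ℕ), m.degree = n → coeff m G₁ = coeff m G₂ from
    MvPowerSeries.ext fun m => H _ m rfl
  intro n
  induction n using Nat.strong_induction_on with
  | _ n ih =>
    intro m hm
    rcases Nat.lt_or_ge n 2 with hn | hn
    · rcases Nat.lt_or_ge n 1 with hn0 | hn1
      · have : m = 0 := (Finsupp.degree_eq_zero_iff m).mp (by omega)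
        subst this
        rw [coeff_zero_eq_constantCoeff_apply, coeff_zero_eq_constantCoeff_apply, h₁, h₂]
      · exact hlin m (by omega)
    · have h := hD.2 n G₁ (G₂ - G₁) (by omega) h₁ (fun m' hm' => by rw [map_sub, ih _ hm' m' rfl, sub_self]) m hm.le
      rw [add_sub_cancel, e₁, e₂, map_zero, zero_add, eq_comm, mul_eq_zero] at h
      exact (sub_eq_zero.mp (by simpa using h.resolve_left (hc n hn))).symm

theorem exists_solution {c : ℕ → R} {D : MvPowerSeries σ R → MvPowerSeries σ R} (hD : IsTri c D) (hc1 : c 1 = 0)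
    (hc : ∀ (G : MvPowerSeries σ R), G.constantCoeff = 0 → ∀ m : σ →₀ ℕ, 2 ≤ m.degree →
      ∃ y, c m.degree * y = coeff m (D G))
    (a : σ → R) : ∃ G : MvPowerSeries σ R, G.constantCoeff = 0 ∧ (∀ i, coeff (Finsupp.single i 1) G = a i) ∧ D G = 0 := by
  classical
  choose y hy using hc
  let lin : MvPowerSeries σ R := fun m => if h : ∃ i, m = Finsupp.single i 1 then a h.choose else 0
  let next : ℕ → {G : MvPowerSeries σ R // G.constantCoeff = 0} → {G : MvPowerSeries σ R // G.constantCoeff = 0} :=
    fun n G => ⟨G.1 + ofFun (fun m => if h : m.degree = n + 2 then - y G.1 G.2 m (by omega) else 0), by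
      rw [map_add, G.2, zero_add, ← coeff_zero_eq_constantCoeff_apply, coeff_ofFun]
      simp⟩
  let seq : ℕ → {G : MvPowerSeries σ R // G.constantCoeff = 0} := fun n => Nat.rec ⟨lin, by
    rw [← coeff_zero_eq_constantCoeff_apply, coeff_apply]
    exact dif_neg fun ⟨i, hi⟩ => one_ne_zero (α := ℕ) (by simpa using (Finsupp.ext_iff.mp hi i).symm)⟩ next n
  have hseq : ∀ n m, m.degree < n + 2 → coeff m (seq (n + 1)).1 = coeff m (seq n).1 := fun n m hm => by
    change coeff m ((seq n).1 + _) = _
    rw [map_add, coeff_ofFun]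
    simp [hm.ne]
  have hstable : ∀ n k m, m.degree ≤ n + 1 → coeff m (seq (n + k)).1 = coeff m (seq n).1 := fun n k m hm => by
    induction k with
    | zero => rfl
    | succ k ih => rw [← ih, ← add_assoc]; exact hseq _ m (by omega)
  let G : MvPowerSeries σ R := fun m => coeff m (seq m.degree).1
  have hG : ∀ n m, m.degree ≤ n + 1 → coeff m G = coeff m (seq n).1 := fun n m hm => by
    change coeff m (seq m.degree).1 = _
    rcases Nat.le_total m.degree n with h | h
    · obtain ⟨k, rfl⟩ := Nat.exists_eq_add_of_le h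
      exact (hstable _ k m (by omega)).symm
    · obtain ⟨k, hk⟩ := Nat.exists_eq_add_of_le h
      rw [hk]; exact hstable _ k m hm
  have hDseq : ∀ n m, m.degree ≤ n + 1 → coeff m (D (seq n).1) = 0 := by
    intro n
    induction n with
    | zero =>
      intro m hm
      have h := hD.2 1 0 (seq 0).1 le_rfl (map_zero _) (fun m' hm' => by
        have : m' = 0 := (Finsupp.degree_eq_zero_iff m').mp (by omega)
        subst this
        rw [coeff_zero_eq_constantCoeff_apply]; exact (seq 0).2) m hm
      rwa [zero_add, hD.1, map_zero, zero_add, hc1, zero_mul] at h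
    | succ n ih =>
      intro m hm
      have h := hD.2 (n + 2) (seq n).1 (ofFun fun m => if h : m.degree = n + 2 then - y (seq n).1 (seq n).2 m (by omega) else 0)
        (by omega) (seq n).2 (fun m' hm' => dif_neg hm'.ne) m (by omega)
      change coeff m (D ((seq n).1 + _)) = 0
      rw [h, coeff_ofFun]
      by_cases hm2 : m.degree = n + 2
      · simp only [hm2, dif_pos]
        have := hy (seq n).1 (seq n).2 m (by omega)
        rw [congrArg c hm2] at this
        rw [mul_neg, this, add_neg_cancel]
      · simp only [hm2, dif_neg, not_false_eq_true, mul_zero, add_zero]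
        exact ih m (by omega)
  refine ⟨G, ?_, fun i => ?_, MvPowerSeries.ext fun m => ?_⟩
  · rw [← coeff_zero_eq_constantCoeff_apply, hG 0 0 (by simp), coeff_zero_eq_constantCoeff_apply]
    exact (seq 0).2
  · rw [hG 0 _ (by simp)]
    change coeff (Finsupp.single i 1) lin = a i
    rw [coeff_apply]
    have hex : ∃ j, Finsupp.single i 1 = Finsupp.single j 1 := ⟨i, rfl⟩
    simp only [lin, dif_pos hex]
    rw [← Finsupp.single_left_injective one_ne_zero hex.choose_spec]
  · have h := hD.2 (m.degree + 2) (seq m.degree).1 (G - (seq m.degree).1) (by omega) (seq _).2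
      (fun m' hm' => by rw [map_sub, hG m.degree m' (by omega), sub_self]) m (by omega)
    rw [add_sub_cancel, hDseq m.degree m (by omega), map_sub, hG m.degree m (by omega), sub_self, mul_zero, add_zero] at h
    rw [h, map_zero]

end Engine

section Frob

variable {R : Type u} [CommRing R] {σ : Type}

/-- The series `πX_i + X_i^q`. -/
noncomputable def frob (π : R) (q : ℕ) (i : σ) : MvPowerSeries σ R := π • X i + X i ^ q

theorem constantCoeff_frob {π : R} {q : ℕ} (hq : 2 ≤ q) (i : σ) : (frob π q i).constantCoeff = 0 := by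
  simp [frob, show q ≠ 0 by omega]

variable [Finite σ]

theorem hasSubst_frob {π : R} {q : ℕ} (hq : 2 ≤ q) : HasSubst (frob (σ := σ) π q) :=
  hasSubst_of_constantCoeff_zero fun i => constantCoeff_frob hq i

theorem coeff_prod_frob {π : R} {q : ℕ} (hq : 2 ≤ q) (d m : σ →₀ ℕ) (h : m.degree ≤ d.degree) :
    coeff m (d.prod fun i e => frob π q i ^ e) = open Classical in if d = m then π ^ d.degree else 0 := by
  classical
  let U : MvPowerSeries σ R := d.prod fun i e => (C π + X i ^ (q - 1)) ^ e
  have heq : (d.prod fun i e => frob π q i ^ e) = monomial d 1 * U := by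
    rw [monomial_one_eq, ← Finsupp.prod_mul]
    refine Finsupp.prod_congr fun i _ => ?_
    rw [← mul_pow]
    congr 1
    rw [frob, smul_eq_C_mul, mul_add, mul_comm (C π), ← pow_succ', Nat.sub_add_cancel (by omega : 1 ≤ q)]
  have hU : constantCoeff U = π ^ d.degree := by
    simp only [U, Finsupp.prod, map_prod, map_pow, map_add, constantCoeff_C, constantCoeff_X,
      zero_pow (show q - 1 ≠ 0 by omega), add_zero]
    rw [Finsupp.degree_apply, ← Finset.prod_pow_eq_pow_sum]
  rw [heq, coeff_monomial_mul]
  by_cases hle : d ≤ m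
  · rw [if_pos hle]
    by_cases hdm : d = m
    · rw [if_pos hdm]; subst hdm; rw [tsub_self, coeff_zero_eq_constantCoeff_apply, hU, one_mul]
    exfalso
    apply hdm
    obtain ⟨e, he⟩ := le_iff_exists_add.mp hle
    have : e = 0 := (Finsupp.degree_eq_zero_iff e).mp (by
      have := congrArg Finsupp.degree he
      rw [map_add] at this
      omega)
    rw [he, this, add_zero]
  · rw [if_neg hle, if_neg fun h => hle h.le]

theorem coeff_subst_frob {π : R} {q : ℕ} (hq : 2 ≤ q) {n : ℕ} (h : MvPowerSeries σ R)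
    (hh : ∀ m : σ →₀ ℕ, m.degree < n → coeff m h = 0) (m : σ →₀ ℕ) (hm : m.degree ≤ n) :
    coeff m (subst (frob π q) h) = π ^ n * coeff m h := by
  classical
  rw [coeff_subst (hasSubst_frob hq), finsum_eq_single _ m]
  · rw [coeff_prod_frob hq m m le_rfl, if_pos rfl, smul_eq_mul]
    rcases Nat.lt_or_ge m.degree n with hlt | hge
    · rw [hh m hlt, zero_mul, mul_zero]
    · rw [le_antisymm hm hge, mul_comm]
  · intro d hd
    rcases Nat.lt_or_ge d.degree n with hlt | hge
    · rw [hh d hlt, zero_smul]
    · rw [coeff_prod_frob hq d m (hm.trans hge), if_neg hd, smul_zero]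

theorem isTri_log {π : R} {q : ℕ} (hq : 2 ≤ q) :
    IsTri (fun n => π ^ n - π) fun G : MvPowerSeries σ R => subst (frob π q) G - π • G := by
  refine ⟨by beta_reduce; rw [← coe_substAlgHom (hasSubst_frob hq), map_zero, smul_zero, sub_zero], fun n G h hn _ hh m hm => ?_⟩
  beta_reduce
  rw [subst_add (hasSubst_frob hq), smul_add, map_sub, map_sub, map_add, map_add, coeff_smul, coeff_smul,
    coeff_subst_frob hq h hh m hm]
  ring

theorem isTri_endo {π : R} {q : ℕ} (hq : 2 ≤ q) :
    IsTri (fun n => π - π ^ n) fun G : MvPowerSeries σ R => π • G + G ^ q - subst (frob π q) G := by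
  classical
  refine ⟨by beta_reduce; rw [← coe_substAlgHom (hasSubst_frob hq), map_zero, smul_zero, zero_pow (show q ≠ 0 by omega), add_zero, sub_zero], fun n G h hn hG hh m hm => ?_⟩
  have hpow : coeff m ((G + h) ^ q) = coeff m (G ^ q) := by
    obtain ⟨P, hP⟩ := sub_dvd_pow_sub_pow (G + h) G q
    have hP' : (G + h) ^ q - G ^ q = h * (∑ i ∈ Finset.range q, (G + h) ^ i * G ^ (q - 1 - i)) := by
      rw [← geom_sum₂_mul]
      ring
    rw [← sub_eq_zero, ← map_sub, hP', coeff_mul]
    refine Finset.sum_eq_zero fun ab hab => ?_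
    rw [Finset.mem_antidiagonal] at hab
    by_cases ha : ab.1.degree < n
    · rw [hh _ ha, zero_mul]
    · have hdeg := congrArg Finsupp.degree hab
      rw [map_add] at hdeg
      have hb : ab.2 = 0 := (Finsupp.degree_eq_zero_iff _).mp (by omega)
      rw [hb, coeff_zero_eq_constantCoeff_apply, map_sum, Finset.sum_eq_zero, mul_zero]
      intro i hi
      have hh0 : constantCoeff h = 0 := by
        rw [← coeff_zero_eq_constantCoeff_apply]; exact hh 0 (by simp; omega)
      rw [map_mul, map_pow, map_pow, map_add, hG, hh0, add_zero]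
      rcases Nat.eq_zero_or_pos i with rfl | hi0
      · rw [zero_pow (show q - 1 - 0 ≠ 0 by omega), mul_zero]
      · rw [zero_pow hi0.ne', zero_mul]
  beta_reduce
  rw [subst_add (hasSubst_frob hq), smul_add, map_sub, map_sub, map_add, map_add, map_add, map_add, coeff_smul, coeff_smul, hpow,
    coeff_subst_frob hq h hh m hm]
  ring

end Frob

section Comp

variable {R : Type u} [CommRing R] {σ τ : Type} [Finite σ] [Finite τ]

theorem coeff_one_subst [Fintype σ] {H : σ → MvPowerSeries τ R} (hH : ∀ i, (H i).constantCoeff = 0)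
    {G : MvPowerSeries σ R} (hG : G.constantCoeff = 0) (m : τ →₀ ℕ) (hm : m.degree = 1) :
    coeff m (subst H G) = ∑ i, coeff (Finsupp.single i 1) G * coeff m (H i) := by
  classical
  rw [coeff_subst (hasSubst_of_constantCoeff_zero hH)]
  rw [finsum_eq_sum_of_support_subset _ (s := (Finset.univ : Finset σ).image fun i => Finsupp.single i 1) ?_]
  · rw [Finset.sum_image fun i _ j _ h => Finsupp.single_left_injective one_ne_zero h]
    exact Finset.sum_congr rfl fun i _ => by rw [Finsupp.prod_single_index (by simp), pow_one, smul_eq_mul]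
  · intro d hd
    simp only [Function.mem_support, smul_eq_mul] at hd
    by_cases hd0 : d.degree = 0
    · exfalso
      rw [(Finsupp.degree_eq_zero_iff d).mp hd0, coeff_zero_eq_constantCoeff_apply, hG, zero_mul] at hd
      exact hd rfl
    by_cases hd1 : d.degree = 1
    · obtain ⟨i, hi⟩ := exists_single_of_degree_eq_one hd1
      simpa using ⟨i, hi.symm⟩
    · exfalso
      refine hd ?_
      rw [Finsupp.prod, coeff_of_lt_order (lt_of_lt_of_le ?_ (le_order_prod _ _)), mul_zero]
      refine lt_of_lt_of_le (b := ((d.degree : ℕ) : ℕ∞)) (by rw [hm]; exact_mod_cast (by omega : 1 < d.degree)) ?_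
      rw [Finsupp.degree_apply, Nat.cast_sum]
      exact Finset.sum_le_sum fun i _ => le_order_pow_of_constantCoeff_eq_zero _ (hH i)

variable {π : R} {q : ℕ}

/-- Intertwining `πT + T^q` with itself. -/
def Inter (π : R) (q : ℕ) (G : MvPowerSeries σ R) : Prop := π • G + G ^ q = subst (frob π q) G

theorem inter_X (hq : 2 ≤ q) (i : σ) : Inter π q (X i : MvPowerSeries σ R) := by
  rw [Inter, subst_X (hasSubst_frob hq)]
  rfl

theorem Inter.comp (hq : 2 ≤ q) {G : MvPowerSeries σ R} (hG : Inter π q G) {H : σ → MvPowerSeries τ R}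
    (hH0 : ∀ i, (H i).constantCoeff = 0) (hH : ∀ i, Inter π q (H i)) : Inter π q (subst H G) := by
  have hs : HasSubst H := hasSubst_of_constantCoeff_zero hH0
  unfold Inter at *
  rw [← subst_pow hs, ← subst_smul hs, ← subst_add hs, hG, subst_comp_subst_apply (hasSubst_frob hq) hs,
    subst_comp_subst_apply hs (hasSubst_frob hq)]
  congr 1
  funext i
  rw [← hH i, frob, subst_add hs, subst_smul hs, subst_pow hs, subst_X hs]

theorem Inter.ext [IsDomain R] (hq : 2 ≤ q) (hπ : ∀ n, 2 ≤ n → π - π ^ n ≠ 0) {G₁ G₂ : MvPowerSeries σ R}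
    (h₁ : Inter π q G₁) (h₂ : Inter π q G₂) (z₁ : G₁.constantCoeff = 0) (z₂ : G₂.constantCoeff = 0)
    (hlin : ∀ i, coeff (Finsupp.single i 1) G₁ = coeff (Finsupp.single i 1) G₂) : G₁ = G₂ :=
  unique_solution (isTri_endo hq) hπ G₁ G₂ z₁ z₂ (fun m hm => by
    obtain ⟨i, rfl⟩ := exists_single_of_degree_eq_one hm
    exact hlin i) (sub_eq_zero.mpr h₁) (sub_eq_zero.mpr h₂)

end Comp

section DVR

variable (O : Type u) [CommRing O] [IsDomain O] [IsDiscreteValuationRing O] [Finite (IsLocalRing.ResidueField O)]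

theorem two_le_card : 2 ≤ Nat.card (IsLocalRing.ResidueField O) := Finite.one_lt_card

variable {O} {π : O} (hπ : Irreducible π)

include hπ

omit [Finite (IsLocalRing.ResidueField O)] in
theorem isUnit_one_sub_pow {n : ℕ} (hn : 1 ≤ n) : IsUnit (1 - π ^ n) :=
  IsLocalRing.isUnit_one_sub_self_of_mem_nonunits _ fun h => hπ.not_isUnit ((isUnit_pow_iff (by omega)).mp h)

omit [Finite (IsLocalRing.ResidueField O)] in
theorem sub_pow_ne_zero {n : ℕ} (hn : 2 ≤ n) : π - π ^ n ≠ 0 := by
  rw [show π - π ^ n = π * (1 - π ^ (n - 1)) by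
    rw [mul_sub, mul_one, ← pow_succ', Nat.sub_add_cancel (by omega : 1 ≤ n)]]
  exact mul_ne_zero hπ.ne_zero (isUnit_one_sub_pow hπ (by omega)).ne_zero

theorem exists_inter {σ : Type} [Finite σ] (a : σ → O) :
    ∃ G : MvPowerSeries σ O, G.constantCoeff = 0 ∧ (∀ i, coeff (Finsupp.single i 1) G = a i) ∧
      Inter π (Nat.card (IsLocalRing.ResidueField O)) G := by
  classical
  set q := Nat.card (IsLocalRing.ResidueField O)
  have hq : 2 ≤ q := two_le_card O
  suffices hsol : ∀ (G : MvPowerSeries σ O), G.constantCoeff = 0 → ∀ m : σ →₀ ℕ, 2 ≤ m.degree →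
      ∃ y, (π - π ^ m.degree) * y = coeff m (π • G + G ^ q - subst (frob π q) G) by
    obtain ⟨G, h0, h1, h2⟩ := exists_solution (isTri_endo (σ := σ) (π := π) hq) (by simp) hsol a
    exact ⟨G, h0, h1, sub_eq_zero.mp h2⟩
  intro G hG m hm
  let k := IsLocalRing.ResidueField O
  let r : O →+* k := IsLocalRing.residue O
  have hrπ : r π = 0 := (IsLocalRing.residue_eq_zero_iff π).mpr ((IsLocalRing.mem_maximalIdeal π).mpr hπ.not_isUnit)
  have hmap : MvPowerSeries.map r (π • G + G ^ q - subst (frob π q) G) = 0 := by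
    rw [map_sub, map_add, map_pow, map_subst (hasSubst_frob hq), smul_eq_C_mul, map_mul, map_C, hrπ, map_zero,
      zero_mul, zero_add, show (fun i : σ => MvPowerSeries.map r (frob π q i)) = fun i => X i ^ q from
        funext fun i => by simp [frob, smul_eq_C_mul, hrπ], sub_eq_zero]
    obtain ⟨p, hp⟩ := CharP.exists k
    haveI := hp
    haveI := Fintype.ofFinite k
    obtain ⟨f, hprime, hcard⟩ := FiniteField.card k p
    haveI := Fact.mk hprime
    haveI : ExpChar k p := ExpChar.prime hprime
    have hqp : q = p ^ (f : ℕ) := by rw [← hcard]; exact Nat.card_eq_fintype_card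
    have hid : iterateFrobenius k p f = RingHom.id k := RingHom.ext fun x => by
      rw [iterateFrobenius_def, ← hcard, FiniteField.pow_card, RingHom.id_apply]
    have h := map_iterateFrobenius_expand p hprime.ne_zero (MvPowerSeries.map r G) f
    rw [hid, MvPowerSeries.map_id, RingHom.id_apply] at h
    rw [hqp, ← h]
    rw [expand, substAlgHom_apply]
  have hdvd : π ∣ coeff m (π • G + G ^ q - subst (frob π q) G) := by
    have h := congrArg (coeff m) hmap
    rw [coeff_map, map_zero, IsLocalRing.residue_eq_zero_iff, hπ.maximalIdeal_eq, Ideal.mem_span_singleton] at h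
    exact h
  obtain ⟨z, hz⟩ := hdvd
  obtain ⟨v, hv⟩ := (isUnit_one_sub_pow hπ (n := m.degree - 1) (by omega)).exists_right_inv
  refine ⟨v * z, ?_⟩
  change (π - π ^ m.degree) * (v * z) = _
  rw [hz, show π - π ^ m.degree = π * (1 - π ^ (m.degree - 1)) by
    rw [mul_sub, mul_one, ← pow_succ', Nat.sub_add_cancel (by omega : 1 ≤ m.degree)], mul_assoc, ← mul_assoc (1 - _), hv, one_mul]

/-- The series of the statements. -/
theorem subst_series {σ : Type} {f : PowerSeries O}
    (hf : f = π • PowerSeries.X + PowerSeries.X ^ Nat.card (IsLocalRing.ResidueField O))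
    {G : MvPowerSeries σ O} (hG : G.constantCoeff = 0) :
    PowerSeries.subst G f = π • G + G ^ Nat.card (IsLocalRing.ResidueField O) := by
  have h : PowerSeries.HasSubst G := PowerSeries.HasSubst.of_constantCoeff_zero hG
  rw [hf, PowerSeries.subst_add h, PowerSeries.subst_smul h, PowerSeries.subst_pow h, PowerSeries.subst_X h]

theorem series_eq_frob {σ : Type} {f : PowerSeries O}
    (hf : f = π • PowerSeries.X + PowerSeries.X ^ Nat.card (IsLocalRing.ResidueField O)) :
    (fun i : σ => PowerSeries.subst (X i : MvPowerSeries σ O) f) = frob π (Nat.card (IsLocalRing.ResidueField O)) :=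
  funext fun i => subst_series hπ hf (constantCoeff_X i)

theorem series_eq {f : PowerSeries O}
    (hf : f = π • PowerSeries.X + PowerSeries.X ^ Nat.card (IsLocalRing.ResidueField O)) :
    (fun _ : Unit => (f : MvPowerSeries Unit O)) = frob π (Nat.card (IsLocalRing.ResidueField O)) := by
  funext i
  rw [hf]; rfl

theorem inter_iff {g f : PowerSeries O}
    (hf : f = π • PowerSeries.X + PowerSeries.X ^ Nat.card (IsLocalRing.ResidueField O)) (hg : g.constantCoeff = 0) :
    PowerSeries.subst g f = PowerSeries.subst f g ↔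
      Inter π (Nat.card (IsLocalRing.ResidueField O)) (g : MvPowerSeries Unit O) := by
  rw [subst_series hπ hf (G := (g : MvPowerSeries Unit O)) hg]
  rw [PowerSeries.subst_def, series_eq hπ hf]
  rfl

end DVR

end Groth.L11.LubinTate
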