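import Groth.Agent.L11.LubinTate.Basic
import Mathlib.RingTheory.Localization.FractionRing

/-!
Lubin–Tate logarithm.
-/

set_option autoImplicit false
universe u

open MvPowerSeries

namespace Groth.L11.LubinTate

variable {R : Type u} [CommRing R] {π : R} {q : ℕ} {σ τ : Type} [Finite σ] [Finite τ]

theorem map_frob {S : Type u} [CommRing S] (φ : R →+* S) (i : σ) :
    MvPowerSeries.map φ (frob π q i) = frob (φ π) q i := by
  simp [frob, smul_eq_C_mul]

theorem Inter.map {S : Type u} [CommRing S] (φ : R →+* S) (hq : 2 ≤ q) {G : MvPowerSeries σ R} (h : Inter π q G) :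
    Inter (φ π) q (MvPowerSeries.map φ G) := by
  have h' := congrArg (MvPowerSeries.map φ) h
  rw [map_add, map_pow, smul_eq_C_mul, map_mul, map_C, map_subst (hasSubst_frob hq), ← smul_eq_C_mul] at h'
  simp only [map_frob] at h'
  exact h'

/-- `ℓ ∘ φ = π ℓ`. -/
def IsLogSol (π : R) (q : ℕ) (G : MvPowerSeries σ R) : Prop := subst (frob π q) G - π • G = 0

theorem IsLogSol.comp (hq : 2 ≤ q) {l : MvPowerSeries σ R} (hl : IsLogSol π q l) {H : σ → MvPowerSeries τ R}
    (hH0 : ∀ i, (H i).constantCoeff = 0) (hH : ∀ i, Inter π q (H i)) : IsLogSol π q (subst H l) := by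
  have hs : HasSubst H := hasSubst_of_constantCoeff_zero hH0
  unfold IsLogSol at *
  rw [sub_eq_zero] at *
  rw [← subst_smul hs, ← hl, subst_comp_subst_apply (hasSubst_frob hq) hs, subst_comp_subst_apply hs (hasSubst_frob hq)]
  congr 1
  funext i
  rw [← hH i, frob, subst_add hs, subst_smul hs, subst_pow hs, subst_X hs]

theorem IsLogSol.add (hq : 2 ≤ q) {G₁ G₂ : MvPowerSeries σ R} (h₁ : IsLogSol π q G₁) (h₂ : IsLogSol π q G₂) :
    IsLogSol π q (G₁ + G₂) := by
  unfold IsLogSol at *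
  rw [subst_add (hasSubst_frob hq), smul_add, add_sub_add_comm, h₁, h₂, add_zero]

theorem IsLogSol.smul (hq : 2 ≤ q) (a : R) {G : MvPowerSeries σ R} (h : IsLogSol π q G) : IsLogSol π q (a • G) := by
  unfold IsLogSol at *
  rw [subst_smul (hasSubst_frob hq), smul_comm π a, ← smul_sub, h, smul_zero]

theorem IsLogSol.ext [IsDomain R] (hq : 2 ≤ q) (hπ : ∀ n, 2 ≤ n → π ^ n - π ≠ 0) {G₁ G₂ : MvPowerSeries σ R}
    (h₁ : IsLogSol π q G₁) (h₂ : IsLogSol π q G₂) (z₁ : G₁.constantCoeff = 0) (z₂ : G₂.constantCoeff = 0)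
    (hlin : ∀ i, coeff (Finsupp.single i 1) G₁ = coeff (Finsupp.single i 1) G₂) : G₁ = G₂ :=
  unique_solution (isTri_log hq) hπ G₁ G₂ z₁ z₂ (fun m hm => by
    obtain ⟨i, rfl⟩ := exists_single_of_degree_eq_one hm
    exact hlin i) h₁ h₂

theorem exists_log {K : Type u} [Field K] {π : K} {q : ℕ} (hq : 2 ≤ q) (hπ : ∀ n, 2 ≤ n → π ^ n - π ≠ 0) :
    ∃ l : MvPowerSeries Unit K, l.constantCoeff = 0 ∧ coeff (Finsupp.single () 1) l = 1 ∧ IsLogSol π q l := by
  obtain ⟨l, h0, h1, h2⟩ := exists_solution (isTri_log (σ := Unit) (π := π) hq) (by simp)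
    (fun G _ m hm => ⟨_, mul_div_cancel₀ _ (hπ _ hm)⟩) (fun _ => 1)
  exact ⟨l, h0, h1 (), h2⟩

end Groth.L11.LubinTate
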